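import Mathlib

/-! Avoiding few submodules; generators of the irrelevant ideal. -/

set_option autoImplicit false

universe u v w

namespace Groth.Agent.AvoidSub

theorem exists_notMem {R : Type u} [CommRing R] (p : Ideal R) {M : Type v} [AddCommGroup M] [Module R M]
    {ι : Type w} [DecidableEq ι] (s : Finset ι) (W : ι → Submodule R M)
    (hsat : ∀ i ∈ s, ∀ (c : R) (u : M), c • u ∈ W i → u ∉ W i → c ∈ p)
    (hne : ∀ i ∈ s, W i ≠ ⊤) {m : ℕ} (c : Fin m → R) (hc : ∀ a b, c a - c b ∈ p → a = b)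
    (hm : s.card ≤ m) : ∃ v : M, ∀ i ∈ s, v ∉ W i := by
  induction s using Finset.induction_on with
  | empty => exact ⟨0, fun i hi => absurd hi (Finset.notMem_empty i)⟩
  | insert a t ha ih =>
    rw [Finset.card_insert_of_notMem ha] at hm
    obtain ⟨u, hu⟩ := ih (fun i hi => hsat i (Finset.mem_insert_of_mem hi))
      (fun i hi => hne i (Finset.mem_insert_of_mem hi)) (by omega)
    by_cases hua : u ∈ W a
    swap
    · exact ⟨u, fun i hi => (Finset.mem_insert.1 hi).elim (fun h => h ▸ hua) (hu i)⟩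
    obtain ⟨v, hv⟩ : ∃ v, v ∉ W a := by
      by_contra h
      push Not at h
      exact hne a (Finset.mem_insert_self a t) (eq_top_iff.2 fun x _ => h x)
    by_contra hcon
    push Not at hcon
    have hbad : ∀ j, ∃ i ∈ t, v + c j • u ∈ W i := fun j => by
      obtain ⟨i, hi, hmem⟩ := hcon (v + c j • u)
      rcases Finset.mem_insert.1 hi with rfl | hi
      · exact absurd (by simpa using sub_mem hmem ((W i).smul_mem (c j) hua)) hv
      · exact ⟨i, hi, hmem⟩
    choose f hf hf' using hbad
    have hinj : Function.Injective f := fun j j' h => by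
      refine hc j j' ?_
      have h1 := sub_mem (hf' j) (h ▸ hf' j' : v + c j' • u ∈ W (f j))
      rw [add_sub_add_left_eq_sub, ← sub_smul] at h1
      exact hsat (f j) (Finset.mem_insert_of_mem (hf j)) _ u h1 (hu _ (hf j))
    have := Finset.card_le_card_of_injOn (s := (Finset.univ : Finset (Fin m))) f
      (fun j _ => hf j) hinj.injOn
    rw [Finset.card_univ, Fintype.card_fin] at this
    omega

/-- A nonempty-degree generating set generates the irrelevant ideal. -/
theorem irrelevant_le {R A : Type u} [CommRing R] [CommRing A] [Algebra R A] (𝒜 : ℕ → Submodule R A)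
    [GradedAlgebra 𝒜] (S : Set A) (hgen : Algebra.adjoin R S = ⊤)
    (hS : ∀ s ∈ S, s ∈ (HomogeneousIdeal.irrelevant 𝒜).toIdeal) :
    (HomogeneousIdeal.irrelevant 𝒜).toIdeal ≤ Ideal.span S := by
  have key : ∀ a : A, ∃ r : R, a - algebraMap R A r ∈ Ideal.span S := by
    intro a
    have ha : a ∈ Algebra.adjoin R S := hgen ▸ Algebra.mem_top
    induction ha using Algebra.adjoin_induction with
    | mem x hx => exact ⟨0, by rw [map_zero, sub_zero]; exact Ideal.subset_span hx⟩
    | algebraMap r => exact ⟨r, by rw [sub_self]; exact zero_mem _⟩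
    | add x y _ _ hx hy =>
      obtain ⟨r, hr⟩ := hx; obtain ⟨r', hr'⟩ := hy
      exact ⟨r + r', by rw [map_add, add_sub_add_comm]; exact add_mem hr hr'⟩
    | mul x y _ _ hx hy =>
      obtain ⟨r, hr⟩ := hx; obtain ⟨r', hr'⟩ := hy
      refine ⟨r * r', ?_⟩
      rw [map_mul, show x * y - algebraMap R A r * algebraMap R A r' =
        (x - algebraMap R A r) * y + algebraMap R A r * (y - algebraMap R A r') by ring]
      exact add_mem (Ideal.mul_mem_right _ _ hr) (Ideal.mul_mem_left _ _ hr')
  intro a ha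
  obtain ⟨r, hr⟩ := key a
  have h1 : algebraMap R A r ∈ (HomogeneousIdeal.irrelevant 𝒜).toIdeal := by
    have h2 := (Ideal.span_le.2 hS) hr
    have := sub_mem ha h2
    rwa [sub_sub_cancel] at this
  have h0 : algebraMap R A r ∈ 𝒜 0 := SetLike.algebraMap_mem_graded 𝒜 r
  have hz : algebraMap R A r = 0 := by
    have h3 : GradedRing.proj 𝒜 0 (algebraMap R A r) = algebraMap R A r := by
      rw [GradedRing.proj_apply, DirectSum.decompose_of_mem_same 𝒜 h0]
    rw [← h3]
    exact (HomogeneousIdeal.mem_irrelevant_iff 𝒜 _).1 h1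
  rw [hz, sub_zero] at hr
  exact hr

theorem exists_notMem_degree {R A : Type u} [CommRing R] [CommRing A] [Algebra R A] (𝒜 : ℕ → Submodule R A)
    [GradedAlgebra 𝒜] (S : Set A) (hgen : Algebra.adjoin R S = ⊤)
    (hS : ∀ s ∈ S, ∃ n, 0 < n ∧ s ∈ 𝒜 n) (x : AlgebraicGeometry.Proj 𝒜) :
    ∃ s ∈ S, s ∉ x.asHomogeneousIdeal := by
  by_contra h
  push Not at h
  refine x.not_irrelevant_le fun a ha => ?_
  refine (Ideal.span_le.2 fun s hs => h s hs) (irrelevant_le 𝒜 S hgen (fun s hs => ?_) ha)
  obtain ⟨n, hn, hsn⟩ := hS s hs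
  exact HomogeneousIdeal.mem_irrelevant_of_mem 𝒜 hn hsn

end Groth.Agent.AvoidSub
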